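import Groth.Agent.H56.StalkIso.Lift
import Groth.Agent.H56.ExtOpen.Main
import Groth.Agent.Lib.DR.ExactPush
import Groth.Agent.Lib.Modules.Support
import Mathlib.Algebra.Homology.DerivedCategory.KProjective
import Mathlib.Algebra.Category.ModuleCat.Projective

/-!
# Pseudo-coherent complexes with isomorphic stalks on an affine scheme
-/

set_option autoImplicit false
set_option linter.style.haveILetI false

universe u

open CategoryTheory Limits AlgebraicGeometry

attribute [local instance] HasDerivedCategory.standard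

namespace Groth.Agent.H56.StalkIso

open Groth.Agent.Lib Groth.Agent.Lib.Modules.StalkModule Groth.Agent.Lib.DerivedOX
open Groth.Agent.Lib.Perfect.Basic Groth.Agent.Lib.Perfect.PseudoCoh Groth.Agent.Lib.PCoh.Cone
open Groth.Agent.H56.ExtOpen

variable {R : CommRingCat.{u}} (p : Spec R)

/-- `tilde` on complexes. -/
noncomputable abbrev tC : CochainComplex (ModuleCat.{u} R) ℤ ⥤ CochainComplex (Spec R).Modules ℤ :=
  (tilde.functor R).mapHomologicalComplex (ComplexShape.up ℤ)

/-- `L` on complexes. -/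
noncomputable abbrev LC : CochainComplex (ModuleCat.{u} R) ℤ ⥤
    CochainComplex (ModuleCat.{u} ((Spec R).presheaf.stalk p)) ℤ :=
  (L p).mapHomologicalComplex (ComplexShape.up ℤ)

instance : PreservesFiniteLimits (L p) := comp_preservesFiniteLimits _ _

instance : PreservesFiniteColimits (L p) := by
  haveI : PreservesFiniteColimits (stalkModFunctor (Spec R) p) :=
    PreservesColimitsOfSize.preservesFiniteColimits _
  exact comp_preservesFiniteColimits _ _

/-- Exact functors preserve isomorphisms on homology. -/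
theorem isIso_homologyMap_map {C : Type*} [Category C] [Abelian C] {D : Type*} [Category D] [Abelian D]
    (Φ : C ⥤ D) [Φ.Additive] [PreservesFiniteLimits Φ] [PreservesFiniteColimits Φ]
    {A B : CochainComplex C ℤ} (f : A ⟶ B) (i : ℤ) (h : IsIso (HomologicalComplex.homologyMap f i)) :
    IsIso (HomologicalComplex.homologyMap ((Φ.mapHomologicalComplex (ComplexShape.up ℤ)).map f) i) := by
  have hn := ShortComplex.mapHomologyIso_hom_naturality
    ((HomologicalComplex.shortComplexFunctor C (ComplexShape.up ℤ) i).map f) Φ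
  change HomologicalComplex.homologyMap ((Φ.mapHomologicalComplex (ComplexShape.up ℤ)).map f) i ≫ _ = _ at hn
  let x := HomologicalComplex.homologyMap f i
  haveI : IsIso x := h
  haveI hx : IsIso (Φ.map x) := inferInstance
  have e : HomologicalComplex.homologyMap ((Φ.mapHomologicalComplex (ComplexShape.up ℤ)).map f) i =
      (((A.sc i).mapHomologyIso Φ).hom ≫ Φ.map x) ≫ ((B.sc i).mapHomologyIso Φ).inv :=
    (((B.sc i).mapHomologyIso Φ).eq_comp_inv).2 hn
  rw [e]
  exact @IsIso.comp_isIso _ _ _ _ _ _ _ (@IsIso.comp_isIso _ _ _ _ _ _ _ inferInstance hx) inferInstance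

/-- Homology of a multiple. -/
theorem homologyMap_smul' {A : Type u} [CommRing A] {K K' : CochainComplex (ModuleCat.{u} A) ℤ}
    (a : A) (f : K ⟶ K') (i : ℤ) :
    HomologicalComplex.homologyMap (a • f) i = a • HomologicalComplex.homologyMap f i := by
  have h : (HomologicalComplex.shortComplexFunctor (ModuleCat.{u} A) (ComplexShape.up ℤ) i).map (a • f) =
      a • (HomologicalComplex.shortComplexFunctor (ModuleCat.{u} A) (ComplexShape.up ℤ) i).map f := by
    ext <;> rfl
  unfold HomologicalComplex.homologyMap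
  rw [h]
  exact ShortComplex.homologyMap_smul ..

/-- A finite free model of a pseudo-coherent object. -/
theorem exists_free_model (E : DCoh.D (Spec R)) (hE : ∀ m : ℤ, DCoh.IsPseudoCoherentD m E) :
    ∃ G : CochainComplex (ModuleCat.{u} R) ℤ, _root_.PCoh.IsStrictPCAll (Free (R := R)) G ∧
      Nonempty (DerivedCategory.Q.obj ((tC (R := R)).obj G) ≅ E) := by
  obtain ⟨G, hG, ⟨e⟩⟩ := exists_free (𝟙 (Spec R)) E hE
  exact ⟨G, hG, ⟨DerivedCategory.Q.mapIso ((rCId _).app ((tC (R := R)).obj G)).symm ≪≫ e⟩⟩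

/-- Vanishing of the cohomology of a complex of modules, seen on `Spec R`. -/
theorem exactAt_of_tilde (G : CochainComplex (ModuleCat.{u} R) ℤ) (i : ℤ)
    (h : IsZero (DCoh.HD (DCoh.toD (Spec R) ((tC (R := R)).obj G)) i)) : G.ExactAt i :=
  (HomologicalComplex.exactAt_iff_isZero_homology _ i).2 (Perfect.TildeD.isZero_of_tilde
    (h.of_iso (((G.sc i).mapHomologyIso (tilde.functor R)).symm ≪≫
      ((DerivedCategory.homologyFunctorFactors (Spec R).Modules i).app ((tC (R := R)).obj G)).symm)))

/-- Near a point where the stalk cohomology vanishes from some degree on, so does the cohomology. -/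
theorem exists_exact_nhd {X : Scheme.{u}} (x : X) (C : DCoh.D X) (hC : ∀ m z, PCAt m C z)
    (B : ℤ) (hB : C.IsLE B) (k : ℤ) (hk : ∀ i, k ≤ i → x ∉ CohB1.support (DCoh.HD C i)) :
    ∃ W : X.Opens, x ∈ W ∧ ∀ i, k ≤ i → IsZero (DCoh.HD ((RD W.ι).obj C) i) := by
  suffices key : ∀ n : ℕ, ∃ W : X.Opens, x ∈ W ∧
      ∀ i, k ≤ i → B + 1 - n ≤ i → IsZero (DCoh.HD ((RD W.ι).obj C) i) by
    obtain ⟨W, hW, h⟩ := key (B + 1 - k).toNat
    exact ⟨W, hW, fun i hi => h i hi (by omega)⟩
  intro n
  induction n with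
  | zero =>
    exact ⟨⊤, trivial, fun i _ hi => ((Scheme.Modules.restrictFunctor _).map_isZero
      (DerivedCategory.isZero_of_isLE C B i (by omega))).of_iso (Perfect.Coherent.homologyIso _ C i)⟩
  | succ n ih =>
    obtain ⟨W, hW, h⟩ := ih
    by_cases hkn : B - n < k
    · exact ⟨W, hW, fun i hi hi' => h i hi (by omega)⟩
    haveI hft : SheafOfModules.IsFiniteType (R := (W : Scheme.{u}).ringCatSheaf)
        (DCoh.HD ((RD W.ι).obj C) (B - n)) :=
      Perfect.Top.isFT_top (fun z => PCAt.restrict W.ι z (hC _ _)) fun i hi => h i (by omega) (by omega)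
    let z : (W : Scheme.{u}) := ⟨x, hW⟩
    have hz : z ∉ CohB1.support (DCoh.HD ((RD W.ι).obj C) (B - n)) := by
      rw [Modules.Support.support_congr (Perfect.Coherent.homologyIso W.ι C (B - n)),
        Modules.Support.support_restrict]
      exact hk _ (by omega)
    let O : (W : Scheme.{u}).Opens :=
      ⟨(CohB1.support (DCoh.HD ((RD W.ι).obj C) (B - n)))ᶜ, (Modules.Support.isClosed_support _).isOpen_compl⟩
    refine ⟨W.ι ''ᵁ O, ⟨z, hz, rfl⟩, fun i hi hi' => ?_⟩
    have hle : W.ι ''ᵁ O ≤ W := by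
      rintro _ ⟨w, -, rfl⟩
      exact w.2
    refine IsZero.of_iso ?_ (Perfect.Coherent.homologyIso _ C i)
    refine Modules.Support.support_eq_empty_iff.1 (Set.eq_empty_iff_forall_notMem.2 fun w hw => ?_)
    rw [Modules.Support.support_restrict] at hw
    obtain ⟨w', hw', e⟩ := w.2
    have hw2 : w' ∈ CohB1.support (DCoh.HD ((RD W.ι).obj C) i) := by
      rw [Modules.Support.support_congr (Perfect.Coherent.homologyIso W.ι C i),
        Modules.Support.support_restrict]
      exact (congrArg (· ∈ CohB1.support (DCoh.HD C i)) e).mpr hw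
    by_cases hik : i = B - n
    · subst hik
      exact hw' hw2
    · have := Modules.Support.support_eq_empty_iff.2 (h i hi (by push_cast at hi' ⊢; omega))
      rw [this] at hw2
      exact hw2

/-- On an affine scheme, bounded pseudo-coherent objects with isomorphic stalks are isomorphic near
the point. -/
theorem core (E F : DCoh.D (Spec R)) (hE : ∀ m : ℤ, DCoh.IsPseudoCoherentD m E)
    (hF : ∀ m : ℤ, DCoh.IsPseudoCoherentD m F) (c : ℤ) [E.IsGE c] [F.IsGE c]
    (hx : Nonempty ((stalkModFunctor (Spec R) p).mapDerivedCategory.obj E ≅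
      (stalkModFunctor (Spec R) p).mapDerivedCategory.obj F)) :
    ∃ W : (Spec R).Opens, p ∈ W ∧ Nonempty ((RD W.ι).obj E ≅ (RD W.ι).obj F) := by
  haveI : PreservesFiniteColimits (stalkModFunctor (Spec R) p) :=
    PreservesColimitsOfSize.preservesFiniteColimits _
  obtain ⟨hx⟩ := hx
  obtain ⟨P, ⟨⟨bP, hbP⟩, hP⟩, ⟨eP⟩⟩ := exists_free_model E hE
  obtain ⟨GF, hGF, ⟨eF⟩⟩ := exists_free_model F hF
  have hexP : ∀ i, i < c → P.ExactAt i := fun i hi => exactAt_of_tilde P i
    ((DerivedCategory.isZero_of_isGE E c i hi).of_iso ((DerivedCategory.homologyFunctor _ i).mapIso eP))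
  have hexF : ∀ i, i < c → GF.ExactAt i := fun i hi => exactAt_of_tilde GF i
    ((DerivedCategory.isZero_of_isGE F c i hi).of_iso ((DerivedCategory.homologyFunctor _ i).mapIso eF))
  let N := GF.truncGE c
  haveI : QuasiIso (GF.πTruncGE c) :=
    (GF.quasiIso_πTruncGE_iff c).2 ((GF.isGE_iff c).2 fun i hi => hexF i hi)
  haveI : P.IsGE c := (P.isGE_iff c).2 fun i hi => hexP i hi
  haveI : N.IsGE c := inferInstance
  let T := Perfect.Stupid.trunc P (c - 2)
  let ι : T ⟶ P := Perfect.Stupid.ι P (c - 2)
  haveI : ∀ i, Mono (ι.f i) := fun i => inferInstanceAs (Mono (kernel.ι _))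
  have hT : ∀ i, i < c - 2 ∨ bP < i → IsZero (T.X i) := fun i hi => by
    rcases hi with hi | hi
    · exact Perfect.Stupid.isZero_trunc _ _ i hi
    · exact IsZero.of_mono (ι.f i) (hbP i hi)
  have hTfree : ∀ i, Module.FinitePresentation R (T.X i) ∧ Module.Projective R (T.X i) := fun i => by
    by_cases hi : c - 2 ≤ i
    · haveI := Perfect.Stupid.isIso_ι P (c - 2) i hi
      obtain ⟨n, ⟨e⟩⟩ := hP i
      let l := ((asIso (ι.f i)) ≪≫ e).toLinearEquiv.symm
      exact ⟨Module.FinitePresentation.of_equiv l, Module.Projective.of_equiv l⟩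
    · haveI := ModuleCat.subsingleton_of_isZero (Perfect.Stupid.isZero_trunc P (c - 2) i (by omega))
      exact ⟨inferInstance, inferInstance⟩
  -- the map on stalks
  let SD := (stalkModFunctor (Spec R) p).mapDerivedCategory
  let eN : DerivedCategory.Q.obj ((tC (R := R)).obj N) ≅ F :=
    (asIso (DerivedCategory.Q.map ((tC (R := R)).map (GF.πTruncGE c)))).symm ≪≫ eF
  let sP : DerivedCategory.Q.obj ((LC p).obj P) ≅ SD.obj E :=
    (DR.ExactPush.mapQ (stalkModFunctor (Spec R) p) ((tC (R := R)).obj P)).symm ≪≫ SD.mapIso eP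
  let sN : DerivedCategory.Q.obj ((LC p).obj N) ≅ SD.obj F :=
    (DR.ExactPush.mapQ (stalkModFunctor (Spec R) p) ((tC (R := R)).obj N)).symm ≪≫ SD.mapIso eN
  let α : DerivedCategory.Q.obj ((LC p).obj T) ⟶ DerivedCategory.Q.obj ((LC p).obj N) :=
    DerivedCategory.Q.map ((LC p).map ι) ≫ (sP ≪≫ hx ≪≫ sN.symm).hom
  haveI : ((LC p).obj T).IsStrictlyLE bP :=
    (CochainComplex.isStrictlyLE_iff _ _).2 fun i hi => (L p).map_isZero (hT i (Or.inr hi))
  haveI : ∀ i, Projective (((LC p).obj T).X i) := fun i => by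
    haveI := (hTfree i).2
    haveI : Projective (T.X i) := (IsProjective.iff_projective (T.X i)).1 (hTfree i).2
    exact Projective.of_iso ((TildeStalk.tildeStalkIso R p).app (T.X i))
      ((ModuleCat.extendRestrictScalarsAdj.{u} (TildeStalk.σ R p)).map_projective _ inferInstance)
  haveI : ((LC p).obj T).IsKProjective := CochainComplex.isKProjective_of_projective _ bP
  let q := DerivedCategory.quotientCompQhIso (ModuleCat.{u} ((Spec R).presheaf.stalk p))
  obtain ⟨g', hg'⟩ := (CochainComplex.IsKProjective.Qh_map_bijective ((LC p).obj T) _).surjective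
    ((q.app _).hom ≫ α ≫ (q.app _).inv)
  obtain ⟨g, rfl⟩ := (HomotopyCategory.quotient _ _).map_surjective g'
  have hg : DerivedCategory.Q.map g = α := by
    have := q.hom.naturality g
    have h2 : (q.app ((LC p).obj T)).hom ≫ DerivedCategory.Q.map g =
        (q.app ((LC p).obj T)).hom ≫ α := by
      refine this.symm.trans ?_
      erw [hg']
      simp
    exact (cancel_epi _).1 h2
  obtain ⟨φ, s, hs, hφ⟩ := exists_lift p T N (c - 2) bP hT (fun i => (hTfree i).1) g
  -- `g` is an isomorphism on cohomology in degrees `≥ c - 1`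
  obtain ⟨hι, -⟩ := Perfect.Stupid.good_ι P (c - 2)
  have hι' : ∀ i, c - 2 < i → IsIso (HomologicalComplex.homologyMap ι i) := fun i hi =>
    (NatIso.isIso_map_iff (DerivedCategory.homologyFunctorFactors _ i) ι).1 (hι i hi)
  have hgi : ∀ i, c - 2 < i → IsIso (HomologicalComplex.homologyMap g i) := fun i hi => by
    haveI := hι' i hi
    haveI : IsIso (HomologicalComplex.homologyMap ((LC p).map ι) i) :=
      isIso_homologyMap_map (L p) ι i inferInstance
    haveI : IsIso ((DerivedCategory.homologyFunctor _ i).map (DerivedCategory.Q.map ((LC p).map ι))) :=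
      (NatIso.isIso_map_iff (DerivedCategory.homologyFunctorFactors _ i) _).2 ‹_›
    have : IsIso ((DerivedCategory.homologyFunctor _ i).map (DerivedCategory.Q.map g)) := by
      rw [hg, Functor.map_comp]
      infer_instance
    exact (NatIso.isIso_map_iff (DerivedCategory.homologyFunctorFactors _ i) g).1 this
  have hLφ : (LC p).map φ = (TildeStalk.σ R p s) • g := HomologicalComplex.hom_ext _ _ fun i => hφ i
  have hφi : ∀ i, c - 2 < i → IsIso (HomologicalComplex.homologyMap ((LC p).map φ) i) := fun i hi => by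
    rw [hLφ, homologyMap_smul']
    haveI := hgi i hi
    obtain ⟨v, hv⟩ := hs
    exact ⟨(↑v⁻¹ : (Spec R).presheaf.stalk p) • inv (HomologicalComplex.homologyMap g i),
      by rw [← hv, Linear.smul_comp, Linear.comp_smul, smul_smul]; simp,
      by rw [← hv, Linear.smul_comp, Linear.comp_smul, smul_smul]; simp⟩
  -- vanishing near `p`
  let C := (tC (R := R)).obj (CochainComplex.mappingCone φ)
  let eC : C ≅ CochainComplex.mappingCone ((tC (R := R)).map φ) :=
    CochainComplex.mappingCone.mapHomologicalComplexIso φ (tilde.functor R)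
  have hTs : DCoh.IsStrictlyPerfect ((tC (R := R)).obj T) :=
    ⟨⟨c - 2, bP, fun i hi => (tilde.functor R).map_isZero (hT i hi)⟩, fun i => by
      haveI := (hTfree i).1
      exact (S12451.result (R := R) (T.X i)).2 ⟨inferInstance, (hTfree i).2⟩⟩
  have hC : ∀ m z, PCAt m (DCoh.toD (Spec R) C) z := fun m z =>
    (pcAt₃ (DerivedCategory.mappingCone_triangle_distinguished ((tC (R := R)).map φ))
      (ResPerf.pcAt_strictlyPerfect hTs (m + 1) z) (((iff_forall m F).1 (hF m) z).of_iso eN.symm)).of_iso
        (DerivedCategory.Q.mapIso eC.symm)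
  obtain ⟨B, hB⟩ := ExtOpen.exists_isLE (fun z => hC 0 z)
  have hsupp : ∀ i, c - 1 ≤ i → p ∉ CohB1.support (DCoh.HD (DCoh.toD (Spec R) C) i) := fun i hi => by
    haveI := hφi i (by omega)
    haveI := hφi (i + 1) (by omega)
    have hex := exactAt_of_epi_of_mono ((LC p).map φ) i (i + 1) rfl
    have hz : IsZero ((stalkModFunctor (Spec R) p).obj (DCoh.HD (DCoh.toD (Spec R) C) i)) :=
      ((HomologicalComplex.exactAt_iff_isZero_homology _ i).1 hex).of_iso
        ((stalkModFunctor (Spec R) p).mapIso
            ((DerivedCategory.homologyFunctorFactors (Spec R).Modules i).app C) ≪≫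
          ((C.sc i).mapHomologyIso (stalkModFunctor (Spec R) p)).symm ≪≫
          (HomologicalComplex.homologyFunctor _ _ i).mapIso
            (CochainComplex.mappingCone.mapHomologicalComplexIso φ (L p)))
    exact Modules.Support.not_mem_support_iff.2 (ModuleCat.subsingleton_of_isZero hz)
  obtain ⟨W, hW, hWz⟩ := exists_exact_nhd p (DCoh.toD (Spec R) C) hC B hB (c - 1) hsupp
  -- the isomorphism
  let K := rC W.ι
  have hφW : ∀ i, c ≤ i → QuasiIsoAt (K.map ((tC (R := R)).map φ)) i := fun i hi => by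
    have hexW : ∀ j, c - 1 ≤ j → (CochainComplex.mappingCone (K.map ((tC (R := R)).map φ))).ExactAt j :=
      fun j hj => (HomologicalComplex.exactAt_iff_isZero_homology _ j).2 ((hWz j hj).of_iso
        ((HomologicalComplex.homologyFunctor _ _ j).mapIso
          ((CochainComplex.mappingCone.mapHomologicalComplexIso _ (Scheme.Modules.restrictFunctor W.ι)).symm ≪≫
            K.mapIso eC.symm) ≪≫
          ((DerivedCategory.homologyFunctorFactors (W : Scheme.{u}).Modules j).app (K.obj C)).symm ≪≫
          (DerivedCategory.homologyFunctor _ j).mapIso (RDQ W.ι C).symm))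
    exact (quasiIsoAt_iff_isIso_homologyMap _ i).2 (((exactGE_iff _ (c - 1)).1 hexW).2 i (by omega))
  have hιW : ∀ i, c ≤ i → QuasiIsoAt (K.map ((tC (R := R)).map ι)) i := fun i hi => by
    exact (quasiIsoAt_iff_isIso_homologyMap _ i).2
      (isIso_homologyMap_map (Scheme.Modules.restrictFunctor W.ι) _ i
        (isIso_homologyMap_map (tilde.functor R) ι i (hι' i (by omega))))
  haveI := (CochainComplex.quasiIso_truncGEMap_iff (φ := K.map ((tC (R := R)).map φ)) (n := c)).2 hφW
  haveI := (CochainComplex.quasiIso_truncGEMap_iff (φ := K.map ((tC (R := R)).map ι)) (n := c)).2 hιW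
  have hq : ∀ A : CochainComplex (ModuleCat.{u} R) ℤ, (∀ i, i < c → A.ExactAt i) →
      QuasiIso ((K.obj ((tC (R := R)).obj A)).πTruncGE c) := fun A hA => by
    refine (CochainComplex.quasiIso_πTruncGE_iff _ c).2 ((CochainComplex.isGE_iff _ c).2 fun i hi => ?_)
    exact (HomologicalComplex.exactAt_iff_isZero_homology _ i).2
      (((tilde.functor R ⋙ Scheme.Modules.restrictFunctor W.ι).map_isZero
        ((HomologicalComplex.exactAt_iff_isZero_homology _ i).1 (hA i hi))).of_iso
        ((A.sc i).mapHomologyIso (tilde.functor R ⋙ Scheme.Modules.restrictFunctor W.ι)))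
  haveI := hq P hexP
  haveI := hq N fun i hi => CochainComplex.exactAt_of_isGE N c i hi
  exact ⟨W, hW, ⟨(RD W.ι).mapIso eP.symm ≪≫ RDQ W.ι _ ≪≫
    asIso (DerivedCategory.Q.map ((K.obj ((tC (R := R)).obj P)).πTruncGE c)) ≪≫
    (asIso (DerivedCategory.Q.map (CochainComplex.truncGEMap (K.map ((tC (R := R)).map ι)) c))).symm ≪≫
    asIso (DerivedCategory.Q.map (CochainComplex.truncGEMap (K.map ((tC (R := R)).map φ)) c)) ≪≫
    (asIso (DerivedCategory.Q.map ((K.obj ((tC (R := R)).obj N)).πTruncGE c))).symm ≪≫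
    (RDQ W.ι _).symm ≪≫ (RD W.ι).mapIso eN⟩⟩

end Groth.Agent.H56.StalkIso
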