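import Groth.Agent.Lib.DerivedOX.TildeStalk
import Mathlib.Algebra.Module.FinitePresentation
import Mathlib.Algebra.Homology.HomologicalComplex
import Mathlib.Order.Interval.Finset.Basic
import Mathlib.Data.Int.Interval

/-!
# Lifting maps of stalks of finite free complexes
-/

set_option autoImplicit false
set_option linter.style.haveILetI false

universe u

open CategoryTheory Limits AlgebraicGeometry

namespace Groth.Agent.H56.StalkIso

open Groth.Agent.Lib Groth.Agent.Lib.Modules.StalkModule Groth.Agent.Lib.DerivedOX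

variable {R : CommRingCat.{u}} (p : Spec R)

/-- `M ↦ M~_p`. -/
noncomputable abbrev L : ModuleCat.{u} R ⥤ ModuleCat.{u} ((Spec R).presheaf.stalk p) :=
  tilde.functor R ⋙ stalkModFunctor (Spec R) p

/-- Maps out of `M~_p` are determined on `M`. -/
theorem L_ext {M : ModuleCat.{u} R} {Y : ModuleCat.{u} ((Spec R).presheaf.stalk p)}
    (a b : (L p).obj M ⟶ Y)
    (h : ∀ m : M, a.hom ((tilde.toStalk M p).hom m) = b.hom ((tilde.toStalk M p).hom m)) : a = b := by
  haveI := TildeStalk.isIso_comparison R p M
  have h' : TildeStalk.toRes R p M ≫ (ModuleCat.restrictScalars (TildeStalk.σ R p)).map a =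
      TildeStalk.toRes R p M ≫ (ModuleCat.restrictScalars (TildeStalk.σ R p)).map b :=
    ModuleCat.hom_ext (LinearMap.ext h)
  have := congrArg ((ModuleCat.extendRestrictScalarsAdj.{u} (TildeStalk.σ R p)).homEquiv M Y).symm h'
  rw [Adjunction.homEquiv_naturality_right_symm, Adjunction.homEquiv_naturality_right_symm] at this
  exact (cancel_epi ((TildeStalk.comparison R p).app M)).1 this

/-- A map of stalk complexes out of a finite complex of finitely presented modules is, up to a unit,
induced by a map of complexes. -/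
theorem exists_lift (T N : CochainComplex (ModuleCat.{u} R) ℤ) (a b : ℤ)
    (hT : ∀ i, i < a ∨ b < i → IsZero (T.X i)) (hfp : ∀ i, Module.FinitePresentation R (T.X i))
    (g : ((L p).mapHomologicalComplex (ComplexShape.up ℤ)).obj T ⟶
      ((L p).mapHomologicalComplex (ComplexShape.up ℤ)).obj N) :
    ∃ (φ : T ⟶ N) (s : R), IsUnit (TildeStalk.σ R p s) ∧
      ∀ i, (L p).map (φ.f i) = (TildeStalk.σ R p s) • g.f i := by
  classical
  let σ := TildeStalk.σ R p
  let S := p.asIdeal.primeCompl
  let B := fun i => (ModuleCat.restrictScalars σ).obj ((L p).obj (N.X i))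
  let f : ∀ i, N.X i →ₗ[R] B i := fun i => (TildeStalk.toRes R p (N.X i)).hom
  let gR : ∀ i, T.X i →ₗ[R] B i :=
    fun i => (TildeStalk.toRes R p (T.X i) ≫ (ModuleCat.restrictScalars σ).map (g.f i)).hom
  haveI hloc : ∀ i, IsLocalizedModule S (f i) := fun i => by
    haveI h : IsLocalizedModule S (tilde.toStalk (N.X i) p).hom := inferInstance
    exact ⟨h.map_units, h.surj, h.exists_of_eq⟩
  have hex : ∀ i, ∃ (h : T.X i →ₗ[R] N.X i) (s : S), f i ∘ₗ h = s • gR i := fun i =>
    haveI := hfp i
    Module.FinitePresentation.exists_lift_of_isLocalizedModule S (f i) (gR i)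
  choose h s hs using hex
  let I := Finset.Icc a b
  let P : S := ∏ i ∈ I, s i
  let ψ : ∀ i, T.X i →ₗ[R] N.X i := fun i =>
    if i ∈ I then ((∏ j ∈ I.erase i, s j : S) : R) • h i else 0
  have hψ : ∀ i, ∀ x, f i (ψ i x) = (P : R) • gR i x := fun i x => by
    by_cases hi : i ∈ I
    · simp only [ψ, if_pos hi, LinearMap.smul_apply, map_smul]
      have e : f i (h i x) = (s i : R) • gR i x := LinearMap.congr_fun (hs i) x
      rw [e, smul_smul, ← Submonoid.coe_mul]
      exact congrArg (fun c : S => (c : R) • gR i x) (Finset.prod_erase_mul I s hi)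
    · have hx : x = 0 := @Subsingleton.elim _
        (ModuleCat.subsingleton_of_isZero (hT i (by simp [I] at hi; omega))) _ _
      rw [hx, map_zero, map_zero, map_zero, smul_zero]
  let D : ∀ i, T.X i →ₗ[R] N.X (i + 1) := fun i =>
    (T.d i (i + 1) ≫ ModuleCat.ofHom (ψ (i + 1)) - ModuleCat.ofHom (ψ i) ≫ N.d i (i + 1)).hom
  have hD : ∀ i x, f (i + 1) (D i x) = 0 := fun i x => by
    have h1 := LinearMap.congr_fun
      (congrArg ModuleCat.Hom.hom (TildeStalk.toRes_natural R p (N.d i (i + 1)))) (ψ i x)
    have h2 := LinearMap.congr_fun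
      (congrArg ModuleCat.Hom.hom (TildeStalk.toRes_natural R p (T.d i (i + 1)))) x
    have h3 := LinearMap.congr_fun (congrArg ModuleCat.Hom.hom (g.comm i (i + 1)))
      ((tilde.toStalk (T.X i) p).hom x)
    change f (i + 1) (ψ (i + 1) ((T.d i (i + 1)).hom x) - (N.d i (i + 1)).hom (ψ i x)) = 0
    rw [map_sub, sub_eq_zero, hψ]
    refine Eq.trans ?_ h1.symm
    change _ = ((ModuleCat.restrictScalars σ).map ((L p).map (N.d i (i + 1)))).hom (f i (ψ i x))
    rw [hψ, map_smul]
    refine congrArg ((P : R) • ·) ?_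
    change (g.f (i + 1)).hom ((TildeStalk.toRes R p (T.X (i + 1))).hom ((T.d i (i + 1)).hom x)) = _
    exact (congrArg (g.f (i + 1)).hom h2).trans h3.symm
  have hkill : ∀ i, ∃ t : S, ∀ x, (t : R) • D i x = 0 := fun i => by
    haveI := hfp i
    obtain ⟨t, ht⟩ := Module.Finite.exists_smul_of_comp_eq_of_isLocalizedModule S (f (i + 1)) (D i) 0
      (LinearMap.ext fun x => by simpa using hD i x)
    exact ⟨t, fun x => by simpa [Submonoid.smul_def] using LinearMap.congr_fun ht x⟩
  choose t ht using hkill
  let Q : S := ∏ i ∈ I, t i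
  have hQ : ∀ i x, (Q : R) • D i x = 0 := fun i x => by
    by_cases hi : i ∈ I
    · rw [show Q = (∏ j ∈ I.erase i, t j) * t i from (Finset.prod_erase_mul I t hi).symm,
        Submonoid.coe_mul, ← smul_smul, ht, smul_zero]
    · have hx : x = 0 := @Subsingleton.elim _
        (ModuleCat.subsingleton_of_isZero (hT i (by simp [I] at hi; omega))) _ _
      rw [hx, map_zero, smul_zero]
  let φ : T ⟶ N :=
    { f := fun i => ModuleCat.ofHom ((Q : R) • ψ i)
      comm' := fun i j hij => by
        obtain rfl : i + 1 = j := hij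
        ext x
        have := hQ i x
        change (Q : R) • (ψ (i + 1) ((T.d i (i + 1)).hom x) - (N.d i (i + 1)).hom (ψ i x)) = 0 at this
        rw [smul_sub, sub_eq_zero] at this
        change (N.d i (i + 1)).hom ((Q : R) • ψ i x) = (Q : R) • ψ (i + 1) ((T.d i (i + 1)).hom x)
        rw [map_smul]
        exact this.symm }
  refine ⟨φ, ((Q * P : S) : R), ?_, fun i => L_ext p _ _ fun m => ?_⟩
  · letI : Algebra R ((Spec R).presheaf.stalk p) := StructureSheaf.stalkAlgebra R p
    haveI : IsLocalization.AtPrime ((Spec R).presheaf.stalk p) p.asIdeal :=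
      StructureSheaf.IsLocalization.to_stalk R p
    exact IsLocalization.map_units ((Spec R).presheaf.stalk p) (Q * P)
  · have h1 := LinearMap.congr_fun (congrArg ModuleCat.Hom.hom (TildeStalk.toRes_natural R p (φ.f i))) m
    refine Eq.trans h1.symm ?_
    change f i ((Q : R) • ψ i m) = _
    rw [map_smul, hψ, smul_smul, ← Submonoid.coe_mul]
    rfl

end Groth.Agent.H56.StalkIso
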