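import Groth.Agent.H56.StalkIso.Core
import Groth.Agent.Lib.Perfect.Spread

/-!
# Pseudo-coherent complexes with isomorphic stalks are isomorphic near the point
-/

set_option autoImplicit false
set_option linter.style.haveILetI false

universe u

open CategoryTheory Limits AlgebraicGeometry

attribute [local instance] HasDerivedCategory.standard

namespace Groth.Agent.H56.StalkIso

open Groth.Agent.Lib Groth.Agent.Lib.Modules.StalkModule Groth.Agent.Lib.DerivedOX
open Groth.Agent.Lib.Perfect.Basic Groth.Agent.Lib.Perfect.PseudoCoh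

variable {X : Scheme.{u}}

/-- Restriction preserves being bounded below. -/
theorem isGE_RD {U : Scheme.{u}} (j : U ⟶ X) [IsOpenImmersion j] (K : DCoh.D X) (c : ℤ) [K.IsGE c] :
    ((RD j).obj K).IsGE c :=
  (DerivedCategory.isGE_iff _ c).2 fun i hi => ((Scheme.Modules.restrictFunctor j).map_isZero
    (DerivedCategory.isZero_of_isGE K c i hi)).of_iso (Perfect.Coherent.homologyIso j K i)

/-- Isomorphic stalks of bounded pseudo-coherent complexes give isomorphic restrictions. -/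
theorem main (x : X) (E F : CochainComplex X.Modules ℤ) (c : ℤ) [(DCoh.toD X E).IsGE c]
    [(DCoh.toD X F).IsGE c]
    (hE : ∀ m : ℤ, DCoh.IsPseudoCoherentD m (DCoh.toD X E))
    (hF : ∀ m : ℤ, DCoh.IsPseudoCoherentD m (DCoh.toD X F))
    (hx : Nonempty (DRing.toD (((DerSch.stalkFunctor X x).mapHomologicalComplex (ComplexShape.up ℤ)).obj E) ≅
      DRing.toD (((DerSch.stalkFunctor X x).mapHomologicalComplex (ComplexShape.up ℤ)).obj F))) :
    ∃ U : X.Opens, x ∈ U ∧
      Nonempty (DerivedCategory.Q.obj ((DCoh.restrictCx U).obj E) ≅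
        DerivedCategory.Q.obj ((DCoh.restrictCx U).obj F)) := by
  obtain ⟨V, hV, hxV, -⟩ := exists_isAffineOpen_mem_and_subset (X := X) (x := x) (U := ⊤) trivial
  obtain ⟨p, rfl⟩ : x ∈ Set.range hV.fromSpec := by rw [hV.range_fromSpec]; exact hxV
  let j := hV.fromSpec
  obtain ⟨h⟩ := hx
  let θ := NatIso.mapHomologicalComplex (Perfect.Spread.stalkRestrictIso j p) (ComplexShape.up ℤ)
  let δ := NatIso.mapHomologicalComplex (StalkCx.derStalkIso (j p)) (ComplexShape.up ℤ)
  let σ : X.presheaf.stalk (j p) ≃+* (Spec Γ(X, V)).presheaf.stalk p :=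
    (asIso (j.stalkMap p)).commRingCatIsoToRingEquiv
  let S' := ModuleCat.restrictScalars.{u} σ.symm.toRingHom
  haveI : PreservesFiniteLimits S' := inferInstance
  haveI : PreservesFiniteColimits S' := inferInstance
  let St := (stalkModFunctor X (j p)).mapHomologicalComplex (ComplexShape.up ℤ)
  let h' : DerivedCategory.Q.obj (St.obj E) ≅ DerivedCategory.Q.obj (St.obj F) :=
    DerivedCategory.Q.mapIso (δ.app E).symm ≪≫ h ≪≫ DerivedCategory.Q.mapIso (δ.app F)
  haveI : PreservesFiniteColimits (stalkModFunctor (Spec Γ(X, V)) p) :=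
    PreservesColimitsOfSize.preservesFiniteColimits _
  let Sp := stalkModFunctor (Spec Γ(X, V)) p
  let e : ∀ K : CochainComplex X.Modules ℤ,
      Sp.mapDerivedCategory.obj ((RD j).obj (DCoh.toD X K)) ≅
        S'.mapDerivedCategory.obj (DerivedCategory.Q.obj (St.obj K)) := fun K =>
    Sp.mapDerivedCategory.mapIso (RDQ j K) ≪≫ DR.ExactPush.mapQ Sp _ ≪≫
      DerivedCategory.Q.mapIso (show _ ≅ (S'.mapHomologicalComplex (ComplexShape.up ℤ)).obj (St.obj K) from
        (θ.app K).symm) ≪≫ (DR.ExactPush.mapQ S' (St.obj K)).symm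
  haveI := isGE_RD j (DCoh.toD X E) c
  haveI := isGE_RD j (DCoh.toD X F) c
  obtain ⟨W, hW, ⟨eW⟩⟩ := core p ((RD j).obj (DCoh.toD X E)) ((RD j).obj (DCoh.toD X F))
    (fun m => (iff_forall m _).2 fun z => PCAt.restrict j z ((iff_forall m _).1 (hE m) _))
    (fun m => (iff_forall m _).2 fun z => PCAt.restrict j z ((iff_forall m _).1 (hF m) _)) c
    ⟨e E ≪≫ S'.mapDerivedCategory.mapIso h' ≪≫ (e F).symm⟩
  refine ⟨j ''ᵁ W, ⟨p, hW, rfl⟩, ⟨?_⟩⟩
  let k := (j.isoImage W).inv
  have hk : k ≫ W.ι ≫ j = (j ''ᵁ W).ι := Scheme.Hom.isoImage_inv_ι j W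
  let r : ∀ K : CochainComplex X.Modules ℤ,
      DerivedCategory.Q.obj ((DCoh.restrictCx (j ''ᵁ W)).obj K) ≅
        (RD k).obj ((RD W.ι).obj ((RD j).obj (DCoh.toD X K))) := fun K =>
    (RDQ (j ''ᵁ W).ι K).symm ≪≫ Perfect.Triangle.RDCongr hk.symm _ ≪≫ Perfect.Triangle.RDComp k (W.ι ≫ j) _ ≪≫
      (RD k).mapIso (Perfect.Triangle.RDComp W.ι j _)
  exact r E ≪≫ (RD k).mapIso eW ≪≫ (r F).symm

end Groth.Agent.H56.StalkIso
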